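import Mathlib

/-! helper7: local structure of unramified / etale local homomorphisms essentially of finite type:
quotient of (resp. equal to) a localization of a standard etale algebra at a prime. -/

set_option linter.style.haveILetI false
set_option linter.unusedVariables false
set_option linter.unusedSectionVars false

universe u

namespace Groth.Agent.Helper7.EtLoc

open IsLocalRing

/-- A surjection of local `A`-algebras `B' → B` with `B` flat over `A`, `B'` Noetherian,
`m_A` finitely generated and `m_A B' = m_B'` is injective. -/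
theorem injective_of_flat (A B' B : Type u) [CommRing A] [CommRing B'] [CommRing B]
    [IsLocalRing A] [IsLocalRing B'] [IsLocalRing B] [Algebra A B'] [Algebra A B]
    [IsNoetherianRing A] [IsNoetherianRing B'] [Module.Flat A B]
    (Ψ : B' →ₐ[A] B) (hΨ : Function.Surjective Ψ)
    (hm : (maximalIdeal A).map (algebraMap A B') = maximalIdeal B') :
    Function.Injective Ψ := by
  rw [injective_iff_map_eq_zero]
  set I : Ideal B' := RingHom.ker (Ψ : B' →+* B) with hI
  have hItop : I ≠ ⊤ := RingHom.ker_ne_top _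
  have hIle : I ≤ maximalIdeal B' := IsLocalRing.le_maximalIdeal hItop
  obtain ⟨n, g, hg⟩ := Submodule.fg_iff_exists_fin_generating_family.mp
    (IsNoetherian.noetherian (maximalIdeal A))
  have hgm : ∀ i, g i ∈ maximalIdeal A := fun i => by
    rw [← hg]; exact Submodule.subset_span ⟨i, rfl⟩
  have hmap : maximalIdeal B' = Ideal.span (Set.range fun i => algebraMap A B' (g i)) := by
    rw [← hm]
    have : maximalIdeal A = Ideal.span (Set.range g) := hg.symm
    rw [this, Ideal.map_span, ← Set.range_comp]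
    rfl
  have key : I ≤ maximalIdeal B' • I := by
    intro x hx
    have hx' : x ∈ Ideal.span (Set.range fun i => algebraMap A B' (g i)) := by
      rw [← hmap]; exact hIle hx
    obtain ⟨b, hb⟩ := (Ideal.mem_span_range_iff_exists_fun).mp hx'
    have hrel : ∑ i, g i • Ψ (b i) = 0 := by
      have : Ψ x = 0 := hx
      rw [← hb, map_sum] at this
      rw [← this]
      refine Finset.sum_congr rfl fun i _ => ?_
      rw [map_mul, AlgHom.commutes, Algebra.smul_def, mul_comm]
    obtain ⟨k, c, y, hy, hc⟩ := Module.Flat.isTrivialRelation_of_sum_smul_eq_zero (R := A) (M := B)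
      (f := g) (x := fun i => Ψ (b i)) hrel
    choose y' hy' using fun j => hΨ (y j)
    let z : Fin n → B' := fun i => b i - ∑ j, c i j • y' j
    have hz : ∀ i, z i ∈ I := by
      intro i
      show Ψ (z i) = 0
      simp only [z, map_sub, map_sum, map_smul, hy', ← hy i, sub_self]
    have hxz : x = ∑ i, algebraMap A B' (g i) * z i := by
      rw [← hb]
      simp only [z, mul_sub, Finset.sum_sub_distrib]
      have h0 : ∑ i, algebraMap A B' (g i) * ∑ j, c i j • y' j = 0 := by
        simp only [Finset.mul_sum]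
        rw [Finset.sum_comm]
        refine Finset.sum_eq_zero fun j _ => ?_
        have : ∀ i, algebraMap A B' (g i) * c i j • y' j = (g i * c i j) • y' j := fun i => by
          rw [Algebra.smul_def, Algebra.smul_def, map_mul, mul_assoc]
        simp only [this, ← Finset.sum_smul, hc j, zero_smul]
      rw [h0, sub_zero]
      exact Finset.sum_congr rfl fun i _ => mul_comm _ _
    rw [hxz]
    refine Ideal.sum_mem _ fun i _ => ?_
    rw [smul_eq_mul]
    refine Ideal.mul_mem_mul ?_ (hz i)
    rw [← hm]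
    exact Ideal.mem_map_of_mem _ (hgm i)
  have hbot : I = ⊥ :=
    Submodule.eq_bot_of_le_smul_of_le_jacobson_bot (maximalIdeal B') I
      (IsNoetherian.noetherian I) key
      (by rw [IsLocalRing.jacobson_eq_maximalIdeal ⊥ bot_ne_top])
  intro a ha
  have : a ∈ I := ha
  rw [hbot] at this
  exact this

/-- An unramified local homomorphism essentially of finite type: `B` is a quotient of a localization
of a standard etale algebra at a prime. -/
theorem exists_standardEtale_surjection (A B : Type u) [CommRing A] [CommRing B]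
    [IsLocalRing A] [IsLocalRing B] [Algebra A B]
    [IsLocalHom (algebraMap A B)] [Algebra.EssFiniteType A B]
    (hm : (maximalIdeal A).map (algebraMap A B) = maximalIdeal B)
    [Algebra.IsSeparable (ResidueField A) (ResidueField B)] :
    ∃ (P : StandardEtalePair A) (𝔮 : Ideal P.Ring) (_ : 𝔮.IsPrime)
      (Ψ : Localization.AtPrime 𝔮 →ₐ[A] B), Function.Surjective Ψ := by
  haveI : Algebra.FormallyUnramified A B := Algebra.FormallyUnramified.of_map_maximalIdeal hm
  obtain ⟨s, hs⟩ := (inferInstance : Algebra.EssFiniteType A B).cond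
  let B₀ := Algebra.adjoin A (s : Set B)
  let 𝔮₀ : Ideal B₀ := (maximalIdeal B).comap (algebraMap B₀ B)
  haveI : 𝔮₀.IsPrime := Ideal.comap_isPrime _ _
  have hM : (IsUnit.submonoid B).comap (algebraMap B₀ B) = 𝔮₀.primeCompl := by
    ext x
    simp only [Submonoid.mem_comap, IsUnit.mem_submonoid_iff, Ideal.mem_primeCompl_iff, 𝔮₀,
      Ideal.mem_comap, mem_maximalIdeal, mem_nonunits_iff, not_not]
  haveI : IsLocalization.AtPrime B 𝔮₀ := by
    rw [IsLocalization.AtPrime, ← hM]; exact hs
  let e : Localization.AtPrime 𝔮₀ ≃ₐ[B₀] B := IsLocalization.algEquiv 𝔮₀.primeCompl _ _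
  haveI : Algebra.IsUnramifiedAt A 𝔮₀ :=
    Algebra.FormallyUnramified.of_equiv (e.restrictScalars A).symm
  haveI : Algebra.FiniteType A B₀ :=
    (Subalgebra.fg_iff_finiteType _).mp (Subalgebra.fg_adjoin_finset s)
  obtain ⟨f, hf, P, φ, hφ⟩ :=
    Algebra.IsUnramifiedAt.exists_hasStandardEtaleSurjectionOn (R := A) 𝔮₀
  have hunit : ∀ m : B₀, m ∉ 𝔮₀ → IsUnit (algebraMap B₀ B m) := by
    intro m hm'
    by_contra h
    exact hm' h
  let lam : Localization.Away f →ₐ[B₀] B :=
    IsLocalization.liftAlgHom (M := Submonoid.powers f) (f := Algebra.ofId B₀ B) (by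
      rintro ⟨_, n, rfl⟩
      simpa using (hunit f hf).pow n)
  have hlam : ∀ x : B₀, lam (algebraMap B₀ (Localization.Away f) x) = algebraMap B₀ B x :=
    fun x => lam.commutes x
  let ψ : P.Ring →ₐ[A] B := (lam.restrictScalars A).comp φ
  let 𝔮 : Ideal P.Ring := (maximalIdeal B).comap ψ
  haveI h𝔮 : 𝔮.IsPrime := Ideal.comap_isPrime _ _
  have hunit' : ∀ y : 𝔮.primeCompl, IsUnit (ψ y) := by
    rintro ⟨y, hy⟩
    by_contra h
    exact hy h
  let Ψ : Localization.AtPrime 𝔮 →ₐ[A] B :=
    IsLocalization.liftAlgHom (M := 𝔮.primeCompl) (f := ψ) hunit'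
  have hΨ : ∀ y : P.Ring, Ψ (algebraMap P.Ring (Localization.AtPrime 𝔮) y) = ψ y := fun y => by
    simp [Ψ]
  refine ⟨P, 𝔮, h𝔮, Ψ, ?_⟩
  intro b
  obtain ⟨⟨x, m⟩, hb⟩ := IsLocalization.surj 𝔮₀.primeCompl b
  obtain ⟨px, hpx⟩ := hφ (algebraMap B₀ _ x)
  obtain ⟨pm, hpm⟩ := hφ (algebraMap B₀ _ (m : B₀))
  have hψx : ψ px = algebraMap B₀ B x := by
    show lam (φ px) = _
    rw [hpx, hlam]
  have hψm : ψ pm = algebraMap B₀ B (m : B₀) := by
    show lam (φ pm) = _
    rw [hpm, hlam]
  have hmu : IsUnit (ψ pm) := by rw [hψm]; exact hunit m m.2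
  have hpm' : pm ∈ 𝔮.primeCompl := by
    intro h
    exact h hmu
  refine ⟨IsLocalization.mk' _ px ⟨pm, hpm'⟩, ?_⟩
  have h1 : Ψ (IsLocalization.mk' (Localization.AtPrime 𝔮) px ⟨pm, hpm'⟩) * ψ pm = ψ px := by
    rw [← hΨ pm, ← map_mul, ← hΨ px]
    congr 1
    exact IsLocalization.mk'_spec _ px ⟨pm, hpm'⟩
  refine hmu.mul_left_injective ?_
  show _ * ψ pm = b * ψ pm
  rw [h1, hψx, hψm]
  exact hb.symm

theorem main9564 (A B : Type u) [CommRing A] [CommRing B]
    [IsLocalRing A] [IsLocalRing B] [Algebra A B]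
    [IsLocalHom (algebraMap A B)] [Algebra.EssFiniteType A B]
    (hm : (maximalIdeal A).map (algebraMap A B) = maximalIdeal B)
    [Algebra.IsSeparable (ResidueField A) (ResidueField B)] :
    ∃ (P : StandardEtalePair A) (𝔮 : Ideal P.Ring) (_ : 𝔮.IsPrime)
      (I : Ideal (Localization.AtPrime 𝔮)),
      Nonempty (B ≃ₐ[A] (Localization.AtPrime 𝔮 ⧸ I)) := by
  obtain ⟨P, 𝔮, h𝔮, Ψ, hΨ⟩ := exists_standardEtale_surjection A B hm
  exact ⟨P, 𝔮, h𝔮, RingHom.ker Ψ.toRingHom,
    ⟨(Ideal.quotientKerAlgEquivOfSurjective hΨ).symm⟩⟩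

theorem main9563 (A B : Type u) [CommRing A] [CommRing B]
    [IsLocalRing A] [IsLocalRing B] [IsNoetherianRing A] [Algebra A B]
    [IsLocalHom (algebraMap A B)] [Algebra.EssFiniteType A B] [Module.Flat A B]
    (hm : (maximalIdeal A).map (algebraMap A B) = maximalIdeal B)
    [Algebra.IsSeparable (ResidueField A) (ResidueField B)] :
    ∃ (P : StandardEtalePair A) (𝔮 : Ideal P.Ring) (_ : 𝔮.IsPrime),
      Nonempty (B ≃ₐ[A] Localization.AtPrime 𝔮) := by
  obtain ⟨P, 𝔮, h𝔮, Ψ, hΨ⟩ := exists_standardEtale_surjection A B hm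
  refine ⟨P, 𝔮, h𝔮, ⟨(AlgEquiv.ofBijective Ψ ⟨?_, hΨ⟩).symm⟩⟩
  haveI : IsNoetherianRing P.Ring := Algebra.FiniteType.isNoetherianRing A P.Ring
  haveI : IsNoetherianRing (Localization.AtPrime 𝔮) :=
    IsLocalization.isNoetherianRing 𝔮.primeCompl _ inferInstance
  haveI : Algebra.FormallyUnramified A (Localization.AtPrime 𝔮) :=
    Algebra.FormallyUnramified.comp A P.Ring _
  haveI : Algebra.EssFiniteType A (Localization.AtPrime 𝔮) :=
    Algebra.EssFiniteType.comp A P.Ring _
  haveI : IsLocalHom (algebraMap A (Localization.AtPrime 𝔮)) := by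
    haveI : IsLocalHom ((Ψ : Localization.AtPrime 𝔮 →+* B).comp
        (algebraMap A (Localization.AtPrime 𝔮))) := by
      have : (Ψ : Localization.AtPrime 𝔮 →+* B).comp (algebraMap A (Localization.AtPrime 𝔮)) =
          algebraMap A B := Ψ.comp_algebraMap
      rw [this]; infer_instance
    exact isLocalHom_of_comp _ (Ψ : Localization.AtPrime 𝔮 →+* B)
  exact injective_of_flat A (Localization.AtPrime 𝔮) B Ψ hΨ
    Algebra.FormallyUnramified.map_maximalIdeal

end Groth.Agent.Helper7.EtLoc
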